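import Groth.Agent.EtFLC.Triv
import Groth.Agent.FEtGal.Galois
import Groth.Agent.EqNhdLib.Basic
import Groth.Agent.S0107
import Groth.Prelude.Def_EtShriek2
import Groth.Prelude.Def_EtCore

/-!
Finite locally constant sheaves represented by finite etale covers; descent of fixed sections along quotients.
-/

set_option autoImplicit false
set_option backward.isDefEq.respectTransparency false
set_option linter.style.haveILetI false
set_option linter.unusedSectionVars false
set_option maxHeartbeats 1000000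

universe u

open CategoryTheory CategoryTheory.Limits AlgebraicGeometry Opposite

noncomputable section

namespace Groth.Agent.FLCFilt

open EtFLC FEtGal

/-- the etale object of a finite etale cover -/
abbrev toEt {S : Scheme.{u}} (U : FEt.Cat S) : S.Etale :=
  haveI : Etale U.hom := U.prop.2
  Scheme.Etale.mk U.hom

/-- a finite etale cover representing an abelian sheaf -/
structure Rep {T : Scheme.{u}} (F : EtCoh.Ab T) where
  U : FEt.Cat T
  eqv : ∀ V : T.Etale, EtCoh.sect F V ≃ (V ⟶ toEt U)
  nat : ∀ {V W : T.Etale} (g : W ⟶ V) (s : EtCoh.sect F V), eqv W (res F g s) = g ≫ eqv V s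

theorem nonempty_rep {T : Scheme.{u}} {F : EtCoh.Ab T} (h : EtCoh.IsFiniteLocallyConstant F) :
    Nonempty (Rep F) := by
  obtain ⟨U, hU, ⟨e⟩⟩ := Groth.Agent.S0107.result F h
  haveI : Etale U.hom := U.prop
  refine ⟨⟨MorphismProperty.Over.mk ⊤ U.hom ⟨hU, inferInstance⟩,
    fun V => (e.app (op V)).toEquiv.trans Equiv.ulift, fun g s => ?_⟩⟩
  exact congrArg ULift.down (NatTrans.naturality_apply e.hom g.op s)

/-- a geometric point above any point -/
theorem exists_geom_point {X : Scheme.{u}} (x : X) :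
    ∃ (Ω : Type u) (_ : Field Ω) (_ : IsAlgClosed Ω) (p : Spec (CommRingCat.of Ω) ⟶ Spec (X.residueField x)),
      Epi p ∧ (p ≫ X.fromSpecResidueField x) (pt₀ Ω) = x := by
  let K := X.residueField x
  refine ⟨AlgebraicClosure K, inferInstance, inferInstance,
    Spec.map (CommRingCat.ofHom (algebraMap K (AlgebraicClosure K))), inferInstance, ?_⟩
  exact (Scheme.Hom.comp_apply _ _ _).trans (Scheme.fromSpecResidueField_apply _ _)

/-- maps agreeing at a geometric point agree on an open neighbourhood -/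
theorem exists_nhd {T : Scheme.{u}} (U : FEt.Cat T) {V : T.Etale} (s t : V ⟶ toEt U) (v : V.left)
    {Ω : Type u} [Field Ω] (p : Spec (CommRingCat.of Ω) ⟶ Spec (V.left.residueField v)) [Epi p]
    (h : (p ≫ V.left.fromSpecResidueField v) ≫ s.left = (p ≫ V.left.fromSpecResidueField v) ≫ t.left) :
    ∃ (W : T.Etale) (k : W ⟶ V) (w : W.left), k.left w = v ∧ k ≫ s = k ≫ t := by
  haveI : Etale U.hom := U.prop.2
  haveI : Etale V.hom := V.prop
  obtain ⟨O, hv, hO⟩ := EqNhdLib.exists_nhd_eq U.hom s.left t.left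
    ((MorphismProperty.Over.w s).trans (MorphismProperty.Over.w t).symm) v
    ((cancel_epi p).1 ((Category.assoc _ _ _).symm.trans (h.trans (Category.assoc _ _ _))))
  exact ⟨Scheme.Etale.mk (O.ι ≫ V.hom), MorphismProperty.Over.homMk O.ι rfl, ⟨v, hv⟩, rfl,
    MorphismProperty.Over.Hom.ext hO⟩

section Base

variable {S : Scheme.{u}} [ConnectedSpace S]

/-- the Galois category of finite etale covers -/
theorem galoisCat : GaloisCategory (FEt.Cat S) := by
  obtain ⟨x⟩ : Nonempty S := inferInstance
  obtain ⟨Ω, _, _, p, -, -⟩ := exists_geom_point x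
  exact galoisCategory (p ≫ S.fromSpecResidueField x)

/-- maps out of a connected cover are determined by one geometric point -/
theorem hom_eq_of_point (A U : FEt.Cat S) (hA : PreGaloisCategory.IsConnected A) (a b : A ⟶ U)
    {Ω : Type u} [Field Ω] [IsAlgClosed Ω] (p : Spec (CommRingCat.of Ω) ⟶ A.left)
    (h : p ≫ a.left = p ≫ b.left) : a = b := by
  haveI := galoisCat (S := S)
  let η : Spec (CommRingCat.of Ω) ⟶ S := p ≫ A.hom
  haveI := FEtGal.fiberFunctor η
  haveI := hA
  exact PreGaloisCategory.evaluation_injective_of_isConnected (fibre η) A U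
    (⟨p, rfl⟩ : FEt.fiberObj η A) (Subtype.ext h)

/-- a Galois cover trivialising a representable sheaf -/
theorem exists_galois_triv {F : EtCoh.Ab S} (R : Rep F) :
    ∃ (A : FEt.Cat S) (M : Type) (_ : AddCommGroup M) (_ : Finite M) (σ : M →+ EtCoh.sect F (toEt A)),
      (haveI := galoisCat (S := S); PreGaloisCategory.IsGalois A) ∧ IsTriv F (toEt A) σ := by
  haveI := galoisCat (S := S)
  obtain ⟨x⟩ : Nonempty S := inferInstance
  obtain ⟨Ω₀, _, _, p₀, -, -⟩ := exists_geom_point x
  let ξ := p₀ ≫ S.fromSpecResidueField x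
  haveI := FEtGal.fiberFunctor ξ
  obtain ⟨A, a₀, hA, hbij⟩ := PreGaloisCategory.exists_galois_representative (fibre ξ) R.U
  haveI := hA
  let E : (A ⟶ R.U) ≃ (toEt A ⟶ toEt R.U) :=
    { toFun := fun m => MorphismProperty.Over.homMk m.left (MorphismProperty.Over.w m)
      invFun := fun m => MorphismProperty.Over.homMk m.left (MorphismProperty.Over.w m)
      left_inv := fun m => MorphismProperty.Over.Hom.ext rfl
      right_inv := fun m => MorphismProperty.Over.Hom.ext rfl }
  haveI : Finite (EtCoh.sect F (toEt A)) :=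
    Finite.of_equiv _ (((Equiv.ofBijective _ hbij).symm.trans E).trans (R.eqv (toEt A)).symm)
  refine ⟨A, Shrink.{0} (EtCoh.sect F (toEt A)), inferInstance, inferInstance,
    (Shrink.addEquiv.{0} (α := EtCoh.sect F (toEt A))).toAddMonoidHom, hA, ?_⟩
  have hid : IsTriv F (toEt A) (AddMonoidHom.id (EtCoh.sect F (toEt A))) := by
    refine ⟨fun {V} g s v => ?_, fun {V} g m hm v => ?_⟩
    · obtain ⟨Ω, _, _, p, hp, -⟩ := exists_geom_point (X := V.left) v
      let pv := p ≫ V.left.fromSpecResidueField v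
      let η : Spec (CommRingCat.of Ω) ⟶ S := (pv ≫ g.left) ≫ A.hom
      haveI := FEtGal.fiberFunctor η
      haveI := FEtGal.fiberFunctor ξ
      obtain ⟨e⟩ := FEtGal.nonempty_fibre_iso ξ η
      have hs : Function.Surjective fun f : A ⟶ R.U =>
          (fibre η).map f (⟨pv ≫ g.left, rfl⟩ : FEt.fiberObj η A) := by
        haveI : Finite (A ⟶ R.U) := Finite.of_equiv _ (Equiv.ofBijective _ hbij).symm
        refine ((Nat.bijective_iff_injective_and_card _).2 ⟨?_, ?_⟩).2
        · exact PreGaloisCategory.evaluation_injective_of_isConnected (fibre η) A R.U _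
        · exact (Nat.card_congr (Equiv.ofBijective _ hbij)).trans
            (Nat.card_congr (FintypeCat.equivEquivIso.symm (e.app R.U))).symm
      let P : FEt.fiberObj η R.U := ⟨pv ≫ (R.eqv V s).left, by
        refine (Category.assoc _ _ _).trans ?_
        refine Eq.trans ?_ (Category.assoc _ _ _).symm
        exact congrArg (pv ≫ ·) ((MorphismProperty.Over.w (R.eqv V s)).trans (MorphismProperty.Over.w g).symm)⟩
      obtain ⟨f, hf⟩ := hs P
      have hf' : (pv ≫ g.left) ≫ f.left = pv ≫ (R.eqv V s).left := congrArg Subtype.val hf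
      obtain ⟨W, k, w, hw, hk⟩ := exists_nhd R.U (R.eqv V s) (g ≫ E f) v p
        (hf'.symm.trans (Category.assoc _ _ _))
      refine ⟨W, k, w, (R.eqv (toEt A)).symm (E f), hw, (R.eqv W).injective ?_⟩
      rw [AddMonoidHom.id_apply, R.nat, R.nat, Equiv.apply_symm_apply, hk, Category.assoc]
    · obtain ⟨Ω, _, _, p, hp, -⟩ := exists_geom_point (X := V.left) v
      have h0 : g ≫ R.eqv (toEt A) m = g ≫ R.eqv (toEt A) 0 := by
        rw [← R.nat, ← R.nat, map_zero]
        exact congrArg _ hm
      refine (R.eqv (toEt A)).injective (E.symm.injective ?_)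
      refine hom_eq_of_point A R.U inferInstance _ _ ((p ≫ V.left.fromSpecResidueField v) ≫ g.left) ?_
      exact (Category.assoc _ _ _).trans ((congrArg ((p ≫ V.left.fromSpecResidueField v) ≫ ·)
        (congrArg (fun k : V ⟶ toEt R.U => k.left) h0)).trans (Category.assoc _ _ _).symm)
  exact hid.congr (Shrink.addEquiv.{0} (α := EtCoh.sect F (toEt A)))

end Base

section Quot

variable {S T : Scheme.{u}} [ConnectedSpace S] (f : T ⟶ S) [IsFinite f] [Etale f]

/-- the base cover -/
abbrev baseObj : FEt.Cat S := MorphismProperty.Over.mk ⊤ f ⟨inferInstance, inferInstance⟩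

/-- a cover of the quotient as an etale object over the quotient -/
abbrev overT {A : FEt.Cat S} (q : A ⟶ baseObj f) : T.Etale :=
  haveI : Etale q.left := by
    haveI : Etale (q.left ≫ f) := by
      rw [show q.left ≫ f = A.hom from MorphismProperty.Over.w q]
      exact A.prop.2
    exact Etale.of_comp q.left f
  Scheme.Etale.mk q.left

variable {f} {A : FEt.Cat S} (hA : PreGaloisCategory.IsConnected A) {q : A ⟶ baseObj f}
  {Q : EtCoh.Ab T} {M : Type} [AddCommGroup M] {σ : M →+ EtCoh.sect Q (overT f q)}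

/-- regard a cover of the quotient as a cover of the base -/
abbrev pushObj (U : FEt.Cat T) : FEt.Cat S :=
  MorphismProperty.Over.mk ⊤ (U.hom ≫ f) (FEt.prop.{u}.comp_mem _ _ U.prop ⟨inferInstance, inferInstance⟩)

/-- maps into a cover of the quotient are maps over the base -/
abbrev pushHom {U : FEt.Cat T} (m : overT f q ⟶ toEt U) : A ⟶ pushObj (f := f) U :=
  MorphismProperty.Over.homMk m.left (by
    change m.left ≫ U.hom ≫ f = A.hom
    rw [← Category.assoc, show m.left ≫ U.hom = q.left from MorphismProperty.Over.w m]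
    exact MorphismProperty.Over.w q)

include hA in
theorem bijective_of_isTriv [Nonempty A.left] (R : Rep Q) (h : IsTriv Q (overT f q) σ) : Function.Bijective σ := by
  refine ⟨(injective_iff_map_eq_zero σ).2 fun m hm =>
    h.inj (𝟙 _) m (by rw [hm, map_zero]) (Classical.arbitrary A.left), fun s => ?_⟩
  obtain ⟨W, k, w, m, -, hm⟩ := h.surj (𝟙 _) s (Classical.arbitrary A.left)
  refine ⟨m, (R.eqv _).injective ?_⟩
  obtain ⟨Ω, _, _, p, hp, -⟩ := exists_geom_point (X := W.left) w
  rw [Category.comp_id] at hm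
  have h0 : k ≫ R.eqv _ (σ m) = k ≫ R.eqv _ s := by rw [← R.nat, ← R.nat, hm]
  have h1 := hom_eq_of_point A (pushObj (f := f) R.U) hA (pushHom (R.eqv _ (σ m))) (pushHom (R.eqv _ s))
    ((p ≫ W.left.fromSpecResidueField w) ≫ k.left)
    ((Category.assoc _ _ _).trans ((congrArg ((p ≫ W.left.fromSpecResidueField w) ≫ ·)
      (congrArg (fun k : W ⟶ toEt R.U => k.left) h0)).trans (Category.assoc _ _ _).symm))
  exact MorphismProperty.Over.Hom.ext (congrArg (fun k : A ⟶ pushObj (f := f) R.U => k.left) h1)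

variable {G : Type u} [Group G] (φ : G →* Aut A) (hq : ∀ g : G, (φ g).hom ≫ q = q)

/-- an automorphism over the quotient -/
abbrev deck (g : G) : overT f q ⟶ overT f q :=
  MorphismProperty.Over.homMk (φ g).hom.left (congrArg (fun k : A ⟶ baseObj f => k.left) (hq g))

theorem deck_one : deck φ hq 1 = 𝟙 _ := by
  refine MorphismProperty.Over.Hom.ext ?_
  change (φ 1).hom.left = _
  rw [map_one]
  rfl

theorem deck_mul (g h : G) : deck φ hq (g * h) = deck φ hq h ≫ deck φ hq g := by
  refine MorphismProperty.Over.Hom.ext ?_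
  change (φ (g * h)).hom.left = _
  rw [map_mul]
  rfl

theorem exists_fixed {ℓ : ℕ} [Fact ℓ.Prime] [Finite G] (hG : IsPGroup ℓ G) [Finite (EtCoh.sect Q (overT f q))]
    (hℓ : EtCoh.KilledBy ℓ Q) (s₀ : EtCoh.sect Q (overT f q)) (hs : s₀ ≠ 0) :
    ∃ m : EtCoh.sect Q (overT f q), m ≠ 0 ∧ ∀ g : G, res Q (deck φ hq g) m = m := by
  letI : MulAction G (EtCoh.sect Q (overT f q)) :=
    { smul := fun g s => res Q (deck φ hq g⁻¹) s
      one_smul := fun s => by
        change res Q (deck φ hq 1⁻¹) s = s
        rw [inv_one, deck_one, res_id]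
      mul_smul := fun g h s => by
        change res Q (deck φ hq (g * h)⁻¹) s = res Q (deck φ hq g⁻¹) (res Q (deck φ hq h⁻¹) s)
        rw [mul_inv_rev, deck_mul, res_res] }
  have hcard : ℓ ∣ Nat.card (EtCoh.sect Q (overT f q)) := by
    have h1 : addOrderOf s₀ = ℓ :=
      addOrderOf_eq_prime (hℓ _ s₀) hs
    exact h1 ▸ addOrderOf_dvd_natCard s₀
  have h0 : (0 : EtCoh.sect Q (overT f q)) ∈ MulAction.fixedPoints G (EtCoh.sect Q (overT f q)) := fun g =>
    map_zero (res Q (deck φ hq g⁻¹))
  obtain ⟨m, hm, hne⟩ := hG.exists_fixed_point_of_prime_dvd_card_of_fixed_point _ hcard h0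
  refine ⟨m, Ne.symm hne, fun g => ?_⟩
  have := hm g⁻¹
  change res Q (deck φ hq g⁻¹⁻¹) m = m at this
  rwa [inv_inv] at this

/-- fixed sections descend -/
theorem exists_descend (R : Rep Q)
    (hdesc : ∀ {W : FEt.Cat S} (m : A ⟶ W), (∀ g : G, (φ g).hom ≫ m = m) →
      ∃ d : baseObj f ⟶ W, q ≫ d = m)
    (hepi : ∀ {W : FEt.Cat S} (d d' : baseObj f ⟶ W), q ≫ d = q ≫ d' → d = d')
    (m : EtCoh.sect Q (overT f q)) (hm : ∀ g : G, res Q (deck φ hq g) m = m) :
    ∃ c : EtCoh.sect Q (EtCoh.top T), res Q ((EtCore.topIsTerminal T).from (overT f q)) c = m := by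
  let mh := R.eqv _ m
  obtain ⟨d, hd⟩ := hdesc (pushHom mh) fun g => by
    refine MorphismProperty.Over.Hom.ext ?_
    exact congrArg (fun k : overT f q ⟶ toEt R.U => k.left) ((R.nat (deck φ hq g) m).symm.trans (congrArg _ (hm g)))
  have hd2 : d.left ≫ R.U.hom = 𝟙 T := by
    let u : pushObj (f := f) R.U ⟶ baseObj f := MorphismProperty.Over.homMk R.U.hom rfl
    have h := hepi (d ≫ u) (𝟙 _) (by
      rw [← Category.assoc, hd, Category.comp_id]
      exact MorphismProperty.Over.Hom.ext (MorphismProperty.Over.w mh))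
    exact congrArg (fun k : baseObj f ⟶ baseObj f => k.left) h
  refine ⟨(R.eqv _).symm (MorphismProperty.Over.homMk d.left hd2), (R.eqv _).injective ?_⟩
  rw [R.nat, Equiv.apply_symm_apply]
  refine MorphismProperty.Over.Hom.ext ?_
  have h1 : ((EtCore.topIsTerminal T).from (overT f q)).left = q.left :=
    (Category.comp_id _).symm.trans (MorphismProperty.Over.w ((EtCore.topIsTerminal T).from (overT f q)))
  change ((EtCore.topIsTerminal T).from (overT f q)).left ≫ d.left = mh.left
  rw [h1]
  exact congrArg (fun k : A ⟶ pushObj (f := f) R.U => k.left) hd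

end Quot

end Groth.Agent.FLCFilt
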